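import Groth.Agent.Lib.HilbPt3.Point
import Groth.Prelude.Def_ArtFun

/-!
# Artinian points at a rational point and the local ring
-/

set_option autoImplicit false
set_option linter.style.haveILetI false
set_option backward.isDefEq.respectTransparency.types false

universe u

open CategoryTheory CategoryTheory.Limits AlgebraicGeometry IsLocalRing

namespace Groth.Agent.HilbPt3

open ArtFun ArtFun.Art

variable {k : Type u} [Field k] {H : Over (Art.specPt k)} (h : Pt ⟶ H)

/-- The image point. -/
noncomputable abbrev pt : H.left := h.left.base (IsLocalRing.closedPoint k)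

/-- The structure map of the local ring. -/
noncomputable def σO : k →+* H.left.presheaf.stalk (pt h) :=
  (Spec.preimage (H.left.fromSpecStalk (pt h) ≫ H.hom)).hom

theorem spec_σO : Spec.map (CommRingCat.ofHom (σO h)) = H.left.fromSpecStalk (pt h) ≫ H.hom :=
  Spec.map_preimage _

/-- The residue map. -/
noncomputable def resO : H.left.presheaf.stalk (pt h) →+* k :=
  (Scheme.stalkClosedPointTo h.left).hom

theorem spec_resO : Spec.map (CommRingCat.ofHom (resO h)) ≫ H.left.fromSpecStalk (pt h) = h.left :=
  Scheme.Spec_stalkClosedPointTo_fromSpecStalk h.left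

theorem resO_σO (c : k) : resO h (σO h c) = c := by
  have e : CommRingCat.ofHom (σO h) ≫ CommRingCat.ofHom (resO h) = 𝟙 (CommRingCat.of k) := by
    apply Spec.map_injective
    rw [Spec.map_comp, spec_σO, ← Category.assoc, spec_resO, Spec.map_id]
    exact Over.w h
  exact congrArg (fun φ : CommRingCat.of k ⟶ CommRingCat.of k => φ.hom c) e

noncomputable instance algO : Algebra k (H.left.presheaf.stalk (pt h)) := (σO h).toAlgebra

/-- The augmentation of the local ring. -/
noncomputable def augO : H.left.presheaf.stalk (pt h) →ₐ[k] k :=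
  { resO h with commutes' := resO_σO h }

theorem augO_surjective : Function.Surjective (augO h) := fun c => ⟨σO h c, resO_σO h c⟩

theorem exists_local_hom {R : Type u} [CommRing R] [IsLocalRing R] (f : Spec (CommRingCat.of R) ⟶ H.left)
    {q : H.left} (hq : f.base (IsLocalRing.closedPoint R) = q) :
    ∃ ψ : H.left.presheaf.stalk q →+* R, Spec.map (CommRingCat.ofHom ψ) ≫ H.left.fromSpecStalk q = f := by
  subst hq
  exact ⟨(Scheme.stalkClosedPointTo f).hom, Scheme.Spec_stalkClosedPointTo_fromSpecStalk f⟩

theorem res_closedPoint (A : Art k k) : (specRes A).base (IsLocalRing.closedPoint k) = IsLocalRing.closedPoint A := by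
  haveI : IsLocalHom A.res.toRingHom := IsLocalHom.of_surjective _ A.res_surjective
  exact IsLocalRing.comap_closedPoint A.res.toRingHom

/-- The point given by a homomorphism of augmented algebras. -/
noncomputable def ofHomSet (A : Art k k) (ψ : HomSet (H.left.presheaf.stalk (pt h)) (augO h) A) : PtsAt h A :=
  ⟨Over.homMk (Spec.map (CommRingCat.ofHom ψ.1.toRingHom) ≫ H.left.fromSpecStalk (pt h)) (by
      rw [Category.assoc, ← spec_σO, ← Spec.map_comp, ← CommRingCat.ofHom_comp]
      show Spec.map _ = Spec.map _
      congr 2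
      exact RingHom.ext fun c => ψ.1.commutes c), Over.OverMorphism.ext (by
      show specRes A ≫ Spec.map (CommRingCat.ofHom ψ.1.toRingHom) ≫ H.left.fromSpecStalk (pt h) = h.left
      rw [← Category.assoc, ← Spec.map_comp, ← CommRingCat.ofHom_comp]
      refine Eq.trans ?_ (spec_resO h)
      congr 3
      exact congrArg AlgHom.toRingHom ψ.2)⟩

theorem ofHomSet_map {A B : Art k k} (g : A ⟶ B) (ψ : HomSet (H.left.presheaf.stalk (pt h)) (augO h) A) :
    (ofHomSet h A ψ).map h g = ofHomSet h B (HomSet.map g ψ) := by
  refine Subtype.ext (Over.OverMorphism.ext ?_)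
  show specMap g ≫ Spec.map (CommRingCat.ofHom ψ.1.toRingHom) ≫ _ = Spec.map _ ≫ _
  rw [← Category.assoc, ← Spec.map_comp, ← CommRingCat.ofHom_comp]
  rfl

theorem ofHomSet_bijective (A : Art k k) : Function.Bijective (ofHomSet h A) := by
  refine ⟨fun ψ ψ' e => Subtype.ext (AlgHom.ext fun a => ?_), fun φ => ?_⟩
  · have e1 : Spec.map (CommRingCat.ofHom ψ.1.toRingHom) ≫ H.left.fromSpecStalk (pt h) =
        Spec.map (CommRingCat.ofHom ψ'.1.toRingHom) ≫ H.left.fromSpecStalk (pt h) :=
      congrArg (fun z : PtsAt h A => z.1.left) e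
    rw [cancel_mono] at e1
    exact congrArg (fun f => (f : H.left.presheaf.stalk (pt h) ⟶ CommRingCat.of A).hom a) (Spec.map_injective e1)
  · have hq : φ.1.left.base (IsLocalRing.closedPoint A) = pt h := by
      rw [← res_closedPoint A]
      show ((specRes A) ≫ φ.1.left).base _ = h.left.base _
      exact congrArg (fun z : Pt ⟶ H => z.left.base (IsLocalRing.closedPoint k)) φ.2
    obtain ⟨ψ, hψ⟩ := exists_local_hom φ.1.left hq
    have hc : ∀ c : k, ψ (σO h c) = algebraMap k A c := fun c => by
      have e : CommRingCat.ofHom (σO h) ≫ CommRingCat.ofHom ψ = CommRingCat.ofHom (algebraMap k A) := by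
        apply Spec.map_injective
        rw [Spec.map_comp, spec_σO, ← Category.assoc, hψ]
        exact Over.w φ.1
      exact congrArg (fun f : CommRingCat.of k ⟶ CommRingCat.of A => f.hom c) e
    let ψA : H.left.presheaf.stalk (pt h) →ₐ[k] A := { ψ with commutes' := hc }
    have hres : A.res.comp ψA = augO h := by
      refine AlgHom.ext fun a => ?_
      have e : CommRingCat.ofHom ψ ≫ CommRingCat.ofHom A.res.toRingHom = CommRingCat.ofHom (resO h) := by
        apply Spec.map_injective
        rw [← cancel_mono (H.left.fromSpecStalk (pt h)), spec_resO, Spec.map_comp, Category.assoc, hψ]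
        exact congrArg (fun z : Pt ⟶ H => z.left) φ.2
      exact congrArg (fun f => (f : H.left.presheaf.stalk (pt h) ⟶ CommRingCat.of k).hom a) e
    exact ⟨⟨ψA, hres⟩, Subtype.ext (Over.OverMorphism.ext hψ)⟩

end Groth.Agent.HilbPt3
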