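import Groth.Agent.Lib.HilbObs3.Vanish
import Groth.Agent.Lib.HilbRS3.QuotPush

/-!
# Vanishing transfer for an arbitrary closed immersion
-/

set_option autoImplicit false
set_option linter.style.haveILetI false
set_option backward.isDefEq.respectTransparency.types false

universe u

open CategoryTheory CategoryTheory.Limits AlgebraicGeometry Opposite

namespace Groth.Agent.HilbObs3

open Groth.Agent

variable {X : Scheme.{u}} [IsNoetherian X] {Z : Scheme.{u}} (i : Z ⟶ X) [IsClosedImmersion i]

/-- The cohomology of `𝓗om(I, O_Z)` is that of the normal sheaf. -/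
theorem subsingleton_HH_homMod' [DCoh.HasSheafHom (Omega.conormal i)]
    (h : Subsingleton (Coh.HH Z ((DCoh.sheafHom (Omega.conormal i)).obj (Coh.structureModule Z)) 1)) :
    Subsingleton (Coh.HH X (M2.homMod (ClSub.idealMod i.ker) (ClSub.quotMod i.ker)) 1) := by
  obtain ⟨e⟩ := @nonempty_push_sheafHom_iso X (ClSub.idealMod i.ker) Z i ‹_› (Coh.structureModule Z)
  have hq : Coh.IsQCoh ((DCoh.sheafHom (Omega.conormal i)).obj (Coh.structureModule Z)) := by
    haveI : IsLocallyNoetherian Z := LocallyOfFiniteType.isLocallyNoetherian i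
    obtain ⟨e'⟩ := nonempty_sheafHom_iso (Omega.conormal i) (Coh.structureModule Z)
    refine (SheafOfModules.isQuasicoherent Z.ringCatSheaf).prop_of_iso (show _ ≅ _ from e'.symm)
      (HomShH7.isQCoh_homMod ?_ (M1.isQCoh_structureModule _))
    exact M1.isFP_pullback _ (M1.isFP_of_isCoh (CurveCoh17.isCoh_idealMod _))
  have h2 := AffStratVan4.subsingleton_HH_push i _ hq 1 h
  obtain ⟨q⟩ := HilbRS3.nonempty_quotMod_ker i
  haveI : DCoh.HasSheafHom (ClSub.idealMod i.ker) := hasSheafHom _
  obtain ⟨a⟩ := nonempty_sheafHom_iso (ClSub.idealMod i.ker) ((Scheme.Modules.pushforward i).obj (Coh.structureModule Z))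
  obtain ⟨b⟩ := nonempty_sheafHom_iso (ClSub.idealMod i.ker) (ClSub.quotMod i.ker)
  exact AffStratVan4.subsingleton_HH_congr
    (e ≪≫ a.symm ≪≫ (DCoh.sheafHom (ClSub.idealMod i.ker)).mapIso q.symm ≪≫ b) 1 h2

end Groth.Agent.HilbObs3
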