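import Groth.Agent.Lib.HilbObs3.ObsQuot
import Groth.Agent.Lib.HilbObs3.RegularP
import Groth.Agent.Lib.HilbPt3.Vanish
import Groth.Agent.Lib.AmpleFin18.PushEuler
import Groth.Agent.Lib.CurveCoh17.LES
import Groth.Agent.Lib.CohFound.ProperFinite
import Groth.Agent.Lib.ModM1.Pull
import Groth.Agent.Lib.CohFound.ProjQuot

/-!
# Obstructions of the local Hilbert functor in the cohomology of the normal sheaf
-/

set_option autoImplicit false
set_option linter.style.haveILetI false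
set_option backward.isDefEq.respectTransparency.types false

universe u

open CategoryTheory CategoryTheory.Limits AlgebraicGeometry Opposite

namespace Groth.Agent.HilbPt3

open ArtFun ArtFun.Art

theorem isCoh_normal {X Y : Scheme.{u}} [IsNoetherian Y] (i : X ⟶ Y) [IsClosedImmersion i]
    [DCoh.HasSheafHom (Omega.conormal i)] :
    Coh.IsCoh ((DCoh.sheafHom (Omega.conormal i)).obj (Coh.structureModule X)) := by
  haveI : IsLocallyNoetherian X := LocallyOfFiniteType.isLocallyNoetherian i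
  obtain ⟨e'⟩ := HilbObs3.nonempty_sheafHom_iso (Omega.conormal i) (Coh.structureModule X)
  exact CohFound.isCoh_of_iso e'.symm
    (HomShH7.isCoh_homMod (M1.isCoh_pullback _ (CurveCoh17.isCoh_idealMod _)) (M1.isCoh_structureModule _))

variable {k : Type u} [Field k] {X : Scheme.{u}} [X.Over (Spec (CommRingCat.of k))]
  {Y : Scheme.{u}} [Y.Over (Spec (CommRingCat.of k))] (i : X ⟶ Y) [IsClosedImmersion i]
  [LocallyOfFiniteType (Y ↘ Spec (CommRingCat.of k))]
  [DCoh.HasSheafHom (Omega.conormal i)]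

variable (hi : i ≫ (Y ↘ Spec (CommRingCat.of k)) = X ↘ Spec (CommRingCat.of k))

include hi

/-- `Hᵖ(Y, 𝓗om(I, O_X)) = Hᵖ(X, N)`, linearly. -/
theorem nonempty_HH_homMod [QuasiCompact (Y ↘ Spec (CommRingCat.of k))] (p : ℕ) :
    Nonempty (Coh.HH Y (M2.homMod (ClSub.idealMod i.ker) (ClSub.quotMod i.ker)) p ≃ₗ[k]
      Coh.HH X ((DCoh.sheafHom (Omega.conormal i)).obj (Coh.structureModule X)) p) := by
  haveI : IsLocallyNoetherian Y := LocallyOfFiniteType.isLocallyNoetherian (Y ↘ Spec (CommRingCat.of k))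
  haveI : CompactSpace Y := QuasiCompact.compactSpace_of_compactSpace (Y ↘ Spec (CommRingCat.of k))
  haveI : IsNoetherian Y := {}
  obtain ⟨e⟩ := @HilbObs3.nonempty_push_sheafHom_iso Y (ClSub.idealMod i.ker) X i ‹_› (Coh.structureModule X)
  obtain ⟨q⟩ := HilbRS3.nonempty_quotMod_ker i
  haveI : DCoh.HasSheafHom (ClSub.idealMod i.ker) := HilbObs3.hasSheafHom _
  obtain ⟨a⟩ := HilbObs3.nonempty_sheafHom_iso (ClSub.idealMod i.ker) ((Scheme.Modules.pushforward i).obj (Coh.structureModule X))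
  obtain ⟨b⟩ := HilbObs3.nonempty_sheafHom_iso (ClSub.idealMod i.ker) (ClSub.quotMod i.ker)
  obtain ⟨P⟩ := AmpleFin18.nonempty_HH_push i hi _ (isCoh_normal i).1 p
  exact ⟨((CurveCoh17.hequiv (A := k) (e ≪≫ a.symm ≪≫ (DCoh.sheafHom (ClSub.idealMod i.ker)).mapIso q.symm ≪≫ b) p).symm).trans P⟩

/-- Obstructions lie in `H¹(X, N)` for a regular immersion. -/
theorem exists_obstructions [QuasiCompact (Y ↘ Spec (CommRingCat.of k))]
    [IsProper (X ↘ Spec (CommRingCat.of k))] (hreg : Mor2.IsRegularClosedImmersion i)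
    {C' C : Art k k} (p : C' ⟶ C) (hp : IsSemismallExt p)
    (u : (ArtFun.localHilb Y (Y ↘ Spec (CommRingCat.of k)) i.ker).obj C) :
    ∃ v : Fin (Module.finrank k (Coh.HH X ((DCoh.sheafHom (Omega.conormal i)).obj (Coh.structureModule X)) 1)) →
        ↥(RingHom.ker p.toAlgHom), ∀ (K : Ideal C') (hK : K ≤ IsLocalRing.maximalIdeal C')
        (hKJ : K ≤ RingHom.ker p.toAlgHom), (∀ l, (v l : C') ∈ K) →
          ∃ u', (ArtFun.localHilb Y (Y ↘ Spec (CommRingCat.of k)) i.ker).map (quotFactor hK p hKJ) u' = u := by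
  haveI : IsLocallyNoetherian Y := LocallyOfFiniteType.isLocallyNoetherian (Y ↘ Spec (CommRingCat.of k))
  haveI : CompactSpace Y := QuasiCompact.compactSpace_of_compactSpace (Y ↘ Spec (CommRingCat.of k))
  haveI : IsNoetherian Y := {}
  obtain ⟨E⟩ := nonempty_HH_homMod (k := k) i hi 1
  haveI := CohFound.finite_HH_of_isProper _ (isCoh_normal i) 1 (A := k) (X := X)
  haveI : Module.Finite k (Coh.HH Y (M2.homMod (ClSub.idealMod i.ker) (ClSub.quotMod i.ker)) 1) :=
    Module.Finite.equiv E.symm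
  refine HilbObs3.exists_lift_quot _ rfl hp (fun z => ?_) E.finrank_eq.le
  by_cases hz : z ∈ Set.range i.ker.subschemeι.base
  · obtain ⟨w, rfl⟩ := hz
    obtain ⟨j, hj⟩ : ∃ j : i.ker.subscheme ⟶ X, j ≫ i = i.ker.subschemeι :=
      ⟨IsClosedImmersion.lift i i.ker.subschemeι (Scheme.IdealSheafData.ker_subschemeι i.ker).ge,
        IsClosedImmersion.lift_fac _ _ _⟩
    obtain ⟨U, hU, hzU, rs, hrs, hI⟩ := hreg.2 (j.base w)
    refine ⟨⟨U, hU⟩, ?_, HilbObs3.exists_liftP_of_regular _ p u hp.1 ⟨U, hU⟩ rs hrs.toIsWeaklyRegular hI⟩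
    rw [← hj]
    exact hzU
  · obtain ⟨U, hzU, hU⟩ := HilbObs3.exists_affine_top_of_notMem hz
    refine ⟨U, hzU, HilbObs3.exists_liftP_top _ p u U hU⟩

end Groth.Agent.HilbPt3
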