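import Groth.Prelude.Def_FGA
import Groth.Prelude.Def_ArtFun6
import Groth.Agent.Lib.HilbBC25.Basic
import Groth.Agent.Lib.ArtFun.Basic
import Groth.Agent.Lib.HilbRS3.Scheme
import Mathlib.AlgebraicGeometry.Stalk

/-!
# Artinian points of a Hilbert scheme at a rational point are the local Hilbert functor
-/

set_option autoImplicit false
set_option linter.style.haveILetI false
set_option backward.isDefEq.respectTransparency.types false

universe u

open CategoryTheory CategoryTheory.Limits AlgebraicGeometry IsLocalRing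

namespace Groth.Agent.HilbPt3

open ArtFun ArtFun.Art

variable {k : Type u} [Field k] {X : Scheme.{u}} (x : X ⟶ Art.specPt k)

/-- `Spec A` over `Spec k`. -/
noncomputable abbrev TA (A : Art k k) : Over (Art.specPt k) := Over.mk (specOver A)

/-- The point. -/
noncomputable abbrev Pt : Over (Art.specPt k) := Over.mk (𝟙 (Spec (CommRingCat.of k)))

theorem specRes_specOver (A : Art k k) : specRes A ≫ specOver A = 𝟙 (Art.specPt k) := by
  change Spec.map _ ≫ Spec.map _ = _
  rw [← Spec.map_comp, ← Spec.map_id, ← CommRingCat.ofHom_comp]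
  congr 1
  refine CommRingCat.hom_ext (RingHom.ext fun c => ?_)
  exact A.res.commutes c

/-- The closed point of `Spec A`. -/
noncomputable def resHom (A : Art k k) : (Pt : Over (Art.specPt k)) ⟶ TA A :=
  Over.homMk (specRes A) (specRes_specOver A)

/-- Functoriality. -/
noncomputable def mapHom {A B : Art k k} (g : A ⟶ B) : TA B ⟶ TA A :=
  Over.homMk (specMap g) (specOver_comp g)

theorem XTmap_mapHom {A B : Art k k} (g : A ⟶ B) : PicF.XTmap x (mapHom g) = XAmap x g := rfl

theorem resHom_mapHom {A B : Art k k} (g : A ⟶ B) : resHom B ≫ mapHom g = resHom A := by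
  refine Over.OverMorphism.ext ?_
  change Spec.map _ ≫ Spec.map _ = Spec.map _
  rw [← Spec.map_comp, ← CommRingCat.ofHom_comp]
  congr 2
  exact RingHom.ext fun a => AlgHom.congr_fun g.res_comp a

theorem hilbPull_eq_comap {S : Scheme.{u}} (f : X ⟶ S) {T T' : Over S} (g : T' ⟶ T)
    (I : (PicF.XT f T).IdealSheafData) : FGA.hilbPull f g I = I.comap (PicF.XTmap f g) :=
  HilbBC25.pull_eq_comap f g I

/-- `X` as the fibre over the point. -/
noncomputable def jPt : X ⟶ PicF.XT x Pt := pullback.lift (𝟙 X) x (by simp)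

theorem jPt_fst : jPt x ≫ pullback.fst x (Pt : Over (Art.specPt k)).hom = 𝟙 X := pullback.lift_fst _ _ _

theorem fst_jPt : pullback.fst x (Pt : Over (Art.specPt k)).hom ≫ jPt x = 𝟙 _ := by
  refine pullback.hom_ext ?_ ?_
  · rw [Category.assoc, jPt_fst, Category.comp_id, Category.id_comp]
  · rw [Category.assoc, jPt, pullback.lift_snd, Category.id_comp, pullback.condition]
    exact Category.comp_id _

theorem XAincl_eq (A : Art k k) : XAincl x A = jPt x ≫ PicF.XTmap x (resHom A) := by
  refine pullback.hom_ext ?_ ?_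
  · refine Eq.trans ?_ ((congrArg (jPt x ≫ ·) (HilbBC25.XTmap_fst x (resHom A))).symm.trans (Category.assoc _ _ _).symm)
    rw [jPt_fst]
    exact XAincl_fst x A
  · refine Eq.trans ?_ ((congrArg (jPt x ≫ ·) (HilbBC25.XTmap_snd x (resHom A))).symm.trans (Category.assoc _ _ _).symm)
    rw [← Category.assoc, jPt, pullback.lift_snd]
    exact XAincl_snd x A

variable {I₀ : X.IdealSheafData} {H : Over (Art.specPt k)} {Z : FGA.HilbSet x H}
variable (h : Pt ⟶ H)

/-- The Artinian points at `h`. -/
abbrev PtsAt (A : Art k k) : Type u := {φ : TA A ⟶ H // resHom A ≫ φ = h}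

/-- Functoriality of the points. -/
noncomputable def PtsAt.map {A B : Art k k} (g : A ⟶ B) (φ : PtsAt h A) : PtsAt h B :=
  ⟨mapHom g ≫ φ.1, by rw [← Category.assoc, resHom_mapHom, φ.2]⟩

variable (hh : FGA.hilbPull x h Z.1 = I₀.comap (pullback.fst x (Pt : Over (Art.specPt k)).hom))

theorem flatOver_pull {A : Art k k} (φ : TA A ⟶ H) :
    FlatOver X x A (Z.1.comap (PicF.XTmap x φ)) := by
  haveI : Flat (Z.1.subschemeι ≫ PicF.XTproj x H) := Z.2.2
  unfold FlatOver
  have hflat : Flat (pullback.fst (PicF.XTmap x φ) Z.1.subschemeι ≫ PicF.XTproj x (TA A)) :=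
    MorphismProperty.of_isPullback (P := @Flat) (HilbBC25.isPullback_subscheme x φ Z.1) Z.2.2
  rw [← Scheme.IdealSheafData.comapIso_hom_fst, Category.assoc]
  exact (MorphismProperty.cancel_left_of_respectsIso @Flat (Z.1.comapIso _).hom _).2 hflat

include hh in
/-- The deformation of an Artinian point. -/
noncomputable def toHilb (A : Art k k) (φ : PtsAt h A) : (ArtFun.localHilb X x I₀).obj A :=
  ⟨Z.1.comap (PicF.XTmap x φ.1), flatOver_pull x φ.1, by
    rw [XAincl_eq, Scheme.IdealSheafData.comap_comp, ← Scheme.IdealSheafData.comap_comp Z.1,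
      ← HilbBC25.XTmap_comp, φ.2, ← hilbPull_eq_comap, hh, ← Scheme.IdealSheafData.comap_comp, jPt_fst,
      Scheme.IdealSheafData.comap_id]⟩

theorem toHilb_map {A B : Art k k} (g : A ⟶ B) (φ : PtsAt h A) :
    (ArtFun.localHilb X x I₀).map g (toHilb x h hh A φ) = toHilb x h hh B (φ.map h g) := by
  refine Subtype.ext ?_
  show (Z.1.comap (PicF.XTmap x φ.1)).comap (XAmap x g) = Z.1.comap (PicF.XTmap x (mapHom g ≫ φ.1))
  rw [← XTmap_mapHom, ← Scheme.IdealSheafData.comap_comp, HilbBC25.XTmap_comp]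

theorem isLocallyNoetherian_spec (A : Art k k) : IsLocallyNoetherian (TA A).left :=
  haveI : IsNoetherianRing A := inferInstance
  inferInstanceAs (IsLocallyNoetherian (Spec (CommRingCat.of A)))

include hh in
theorem toHilb_bijective (hH : FGA.HilbRepresentedBy x H Z) [IsProper x] (A : Art k k) :
    Function.Bijective (toHilb x h hh A) := by
  haveI := isLocallyNoetherian_spec A
  haveI : IsLocallyNoetherian (Pt : Over (Art.specPt k)).left :=
    inferInstanceAs (IsLocallyNoetherian (Spec (CommRingCat.of k)))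
  have mkSet : ∀ J : (ArtFun.localHilb X x I₀).obj A,
      IsProper (J.1.subschemeι ≫ PicF.XTproj x (TA A)) := fun J => by
    haveI : IsProper (PicF.XTproj x (TA A)) := inferInstanceAs (IsProper (pullback.snd x (TA A).hom))
    infer_instance
  refine ⟨fun φ φ' e => Subtype.ext ?_, fun J => ?_⟩
  · obtain ⟨g, -, hg⟩ := hH.2 (TA A) ⟨(toHilb x h hh A φ).1, mkSet _, (toHilb x h hh A φ).2.1⟩
    rw [hg φ.1 (hilbPull_eq_comap x _ _),
      hg φ'.1 ((hilbPull_eq_comap x _ _).trans (congrArg Subtype.val e).symm)]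
  · obtain ⟨φ, hφ, -⟩ := hH.2 (TA A) ⟨J.1, mkSet J, J.2.1⟩
    have hres : resHom A ≫ φ = h := by
      obtain ⟨g, -, hg⟩ := hH.2 Pt ⟨Z.1.comap (PicF.XTmap x h), by
        haveI : IsProper (PicF.XTproj x (Pt : Over (Art.specPt k))) :=
          inferInstanceAs (IsProper (pullback.snd x (Pt : Over (Art.specPt k)).hom))
        infer_instance, HilbRS3.flat_over_field _⟩
      rw [hg h (hilbPull_eq_comap x _ _), hg (resHom A ≫ φ) ?_]
      refine (hilbPull_eq_comap x (resHom A ≫ φ) Z.1).trans ?_
      rw [HilbBC25.XTmap_comp, Scheme.IdealSheafData.comap_comp, ← hilbPull_eq_comap x φ, hφ]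
      show J.1.comap (PicF.XTmap x (resHom A)) = Z.1.comap (PicF.XTmap x h)
      refine Eq.trans ?_ (((congrArg (Scheme.IdealSheafData.comap · _) J.2.2)).trans
        (hh.symm.trans (hilbPull_eq_comap x h Z.1)))
      generalize J.1 = K
      rw [XAincl_eq, ← Scheme.IdealSheafData.comap_comp, ← Category.assoc, fst_jPt, Category.id_comp]
    exact ⟨⟨φ, hres⟩, Subtype.ext ((hilbPull_eq_comap x φ Z.1).symm.trans hφ)⟩

end Groth.Agent.HilbPt3
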