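import Groth.Agent.Lib.HilbPt3.Local
import Groth.Agent.Lib.ArtFun.Completion
import Groth.Agent.Lib.ArtFun.Hull
import Groth.Agent.Lib.ArtFun.Smooth
import Groth.Agent.Lib.AdicSmooth.RegularIff
import Mathlib.RingTheory.Ideal.Cotangent
import Mathlib.LinearAlgebra.Dual.Lemmas

/-!
# Smooth points and tangent spaces of local rings at rational points
-/

set_option autoImplicit false
set_option linter.style.haveILetI false
set_option backward.isDefEq.respectTransparency.types false

universe u

open CategoryTheory IsLocalRing

namespace Groth.Agent.HilbPt3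

open ArtFun ArtFun.Art

variable {k : Type u} [Field k] {S : Type u} [CommRing S] [IsLocalRing S] [Algebra k S]

/-- A local ring whose Artinian points lift along surjections is regular. -/
theorem isRegularLocalRing_of_smooth [IsNoetherianRing S] (res : S →ₐ[k] k) (hres : Function.Surjective res)
    (h : IsSmoothFunctor (hR S res)) : IsRegularLocalRing S := by
  have h2 : IsSmoothFunctor (hR (ArtFunLib.completionRing res hres).carrier (ArtFunLib.completionRing res hres).res) := by
    intro B A μ hμ φ
    obtain ⟨ψ, hψ⟩ := h μ hμ (ArtFunLib.restrictPoint res hres A φ)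
    obtain ⟨φ', hφ'⟩ := (ArtFunLib.restrictPoint_bijective res hres B).2 ψ
    refine ⟨φ', (ArtFunLib.restrictPoint_bijective res hres A).1 ?_⟩
    refine Eq.trans ?_ hψ
    rw [← hφ']
    rfl
  haveI : IsRegularLocalRing (ArtFunLib.completionRing res hres).carrier :=
    AdicSmooth.isRegularLocalRing_of_adicFS ((ArtFunLib.isSmoothFunctor_hR_iff _).1 h2)
  exact (Compl.isRegularLocalRing_adicCompletion_iff S).2 this

section Tangent

variable (res : S →ₐ[k] k) (hres : Function.Surjective res)

include hres

theorem res_mem {a : S} : a ∈ maximalIdeal S ↔ res a = 0 := by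
  rw [← ArtFunLib.ker_res_eq_max res hres, RingHom.mem_ker]; rfl

theorem sub_res_mem (a : S) : a - algebraMap k S (res a) ∈ maximalIdeal S := by
  rw [res_mem res hres, map_sub, AlgHom.commutes]; exact sub_self _

theorem snd_sq (φ : HomSet S res (dual k k)) {a : S} (ha : a ∈ maximalIdeal S ^ 2) :
    TrivSqZeroExt.snd (φ.1 a) = 0 := by
  rw [pow_two] at ha
  refine Submodule.mul_induction_on ha (fun y hy z hz => ?_) fun y z hy hz => ?_
  · have hy0 : TrivSqZeroExt.fst (φ.1 y) = 0 :=
      (ArtFunLib.homSet_res φ y).trans ((res_mem res hres).1 hy)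
    have hz0 : TrivSqZeroExt.fst (φ.1 z) = 0 :=
      (ArtFunLib.homSet_res φ z).trans ((res_mem res hres).1 hz)
    rw [map_mul]
    refine (TrivSqZeroExt.snd_mul _ _).trans ?_
    rw [hy0, hz0, zero_smul, MulOpposite.op_zero, zero_smul, add_zero]
  · rw [map_add]
    refine (TrivSqZeroExt.snd_add _ _).trans ?_
    rw [hy, hz, add_zero]

variable [TangentStr (hR S res)]

/-- A tangent vector as a linear form on the cotangent space. -/
theorem exists_form (φ : TangentSpace (hR S res)) : ∃ χ : Module.Dual k (maximalIdeal S).Cotangent,
    ∀ z : maximalIdeal S, χ ((maximalIdeal S).toCotangent z) = ArtFunLib.evLin z.1 φ := by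
  choose sec hsec using (maximalIdeal S).toCotangent_surjective
  have wd : ∀ z : maximalIdeal S, ArtFunLib.evLin (sec ((maximalIdeal S).toCotangent z)).1 φ =
      ArtFunLib.evLin z.1 φ := fun z => by
    have h := snd_sq res hres (φ.val) ((maximalIdeal S).toCotangent_eq.1 (hsec ((maximalIdeal S).toCotangent z)))
    rw [map_sub] at h
    exact sub_eq_zero.1 ((TrivSqZeroExt.snd_sub _ _).symm.trans h)
  refine ⟨{ toFun := fun c => ArtFunLib.evLin (sec c).1 φ, map_add' := fun c d => ?_, map_smul' := fun r c => ?_ }, wd⟩
  · obtain ⟨y, rfl⟩ := (maximalIdeal S).toCotangent_surjective c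
    obtain ⟨z, rfl⟩ := (maximalIdeal S).toCotangent_surjective d
    rw [← map_add, wd, wd, wd, ArtFunLib.evLin_apply, ArtFunLib.evLin_apply, ArtFunLib.evLin_apply,
      Submodule.coe_add, map_add]
    exact TrivSqZeroExt.snd_add _ _
  · obtain ⟨y, rfl⟩ := (maximalIdeal S).toCotangent_surjective c
    rw [RingHom.id_apply, show r • (maximalIdeal S).toCotangent y =
      (maximalIdeal S).toCotangent ((algebraMap k S r) • y) by rw [map_smul, algebraMap_smul], wd, wd,
      ArtFunLib.evLin_apply, ArtFunLib.evLin_apply]
    show TrivSqZeroExt.snd ((φ.val : HomSet S res (dual k k)).1 (algebraMap k S r * y.1)) = _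
    rw [← Algebra.smul_def, map_smul]
    rfl

/-- The tangent space of the functor of points is the dual of the cotangent space. -/
theorem nonempty_tangent_dual :
    Nonempty (TangentSpace (hR S res) ≃ₗ[k] Module.Dual k (maximalIdeal S).Cotangent) := by
  choose f hf using exists_form res hres
  let L : TangentSpace (hR S res) →ₗ[k] Module.Dual k (maximalIdeal S).Cotangent :=
    { toFun := f
      map_add' := fun φ ψ => LinearMap.ext fun c => by
        obtain ⟨z, rfl⟩ := (maximalIdeal S).toCotangent_surjective c
        rw [LinearMap.add_apply, hf, hf, hf, map_add]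
      map_smul' := fun r φ => LinearMap.ext fun c => by
        obtain ⟨z, rfl⟩ := (maximalIdeal S).toCotangent_surjective c
        rw [RingHom.id_apply, LinearMap.smul_apply, hf, hf, map_smul] }
  refine ⟨LinearEquiv.ofBijective L ⟨fun φ ψ h => ArtFunLib.tangent_ext fun r => ?_, fun χ => ?_⟩⟩
  · have h1 := LinearMap.congr_fun h ((maximalIdeal S).toCotangent ⟨_, sub_res_mem res hres r⟩)
    change f φ _ = f ψ _ at h1
    rw [hf, hf] at h1
    have key : ∀ φ : TangentSpace (hR S res),
        ArtFunLib.evLin (r - algebraMap k S (res r)) φ = ArtFunLib.evLin r φ := fun φ => by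
      rw [ArtFunLib.evLin_apply, ArtFunLib.evLin_apply, map_sub, AlgHom.commutes]
      refine (TrivSqZeroExt.snd_sub _ _).trans ?_
      exact sub_zero _
    rwa [key, key] at h1
  · let dlt : S → k := fun a => χ ((maximalIdeal S).toCotangent ⟨_, sub_res_mem res hres a⟩)
    have hadd : ∀ a b, dlt (a + b) = dlt a + dlt b := fun a b => by
      simp only [dlt]
      rw [← map_add, ← map_add]
      congr 2
      exact Subtype.ext (show a + b - algebraMap k S (res (a + b)) =
        a - algebraMap k S (res a) + (b - algebraMap k S (res b)) by rw [map_add, map_add]; ring)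
    have hmul : ∀ a b, dlt (a * b) = res a * dlt b + res b * dlt a := fun a b => by
      simp only [dlt]
      let za : maximalIdeal S := ⟨_, sub_res_mem res hres a⟩
      let zb : maximalIdeal S := ⟨_, sub_res_mem res hres b⟩
      have e : (maximalIdeal S).toCotangent ⟨_, sub_res_mem res hres (a * b)⟩ =
          res a • (maximalIdeal S).toCotangent zb + res b • (maximalIdeal S).toCotangent za := by
        rw [← algebraMap_smul S (res a), ← algebraMap_smul S (res b), ← map_smul, ← map_smul, ← map_add,
          Ideal.toCotangent_eq, pow_two]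
        convert Ideal.mul_mem_mul za.2 zb.2 using 1
        show a * b - algebraMap k S (res (a * b)) - (algebraMap k S (res a) * (b - algebraMap k S (res b)) +
          algebraMap k S (res b) * (a - algebraMap k S (res a))) =
          (a - algebraMap k S (res a)) * (b - algebraMap k S (res b))
        rw [map_mul, map_mul]; ring
      rw [e, map_add, map_smul, map_smul]
      rfl
    let φ₀ : S →+* DualNumber k :=
      { toFun := fun a => (res a, dlt a)
        map_one' := TrivSqZeroExt.ext (map_one res) (by
          show dlt 1 = 0
          have := hmul 1 1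
          rw [one_mul, map_one, one_mul] at this
          simpa using this)
        map_mul' := fun a b => TrivSqZeroExt.ext (map_mul res a b) (by
          show dlt (a * b) = res a • dlt b + MulOpposite.op (res b) • dlt a
          rw [hmul, op_smul_eq_smul]; rfl)
        map_zero' := TrivSqZeroExt.ext (map_zero res) (by
          show dlt 0 = 0
          have := hadd 0 0
          rw [add_zero] at this
          simpa using this)
        map_add' := fun a b => TrivSqZeroExt.ext (map_add res a b) (hadd a b) }
    let φ : HomSet S res (dual k k) := ⟨{ φ₀ with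
      commutes' := fun c => TrivSqZeroExt.ext (res.commutes c) (by
        show dlt (algebraMap k S c) = 0
        simp only [dlt]
        rw [show (⟨_, sub_res_mem res hres (algebraMap k S c)⟩ : maximalIdeal S) = 0 from Subtype.ext (by
          show algebraMap k S c - algebraMap k S (res (algebraMap k S c)) = 0
          rw [res.commutes]; exact sub_self _), map_zero, map_zero]) }, AlgHom.ext fun a => rfl⟩
    refine ⟨TangentSpace.mk φ, LinearMap.ext fun c => ?_⟩
    obtain ⟨z, rfl⟩ := (maximalIdeal S).toCotangent_surjective c
    show f (TangentSpace.mk φ) _ = _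
    rw [hf, ArtFunLib.evLin_apply]
    show dlt z.1 = _
    simp only [dlt]
    congr 2
    exact Subtype.ext (by show _ - _ = _; rw [(res_mem res hres).1 z.2, map_zero, sub_zero])

end Tangent

end Groth.Agent.HilbPt3
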