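import Groth.Agent.Lib.HilbRS3.NormalH0
import Groth.Agent.Lib.HilbRS3.QuotPush
import Groth.Agent.Lib.ArtFun.Tangent

/-!
# The tangent space of the local Hilbert functor of a closed immersion
-/

set_option autoImplicit false
set_option linter.style.haveILetI false
set_option backward.isDefEq.respectTransparency.types false

universe u

open CategoryTheory CategoryTheory.Limits AlgebraicGeometry Opposite

namespace Groth.Agent.HilbPt3

open ArtFun ArtFun.Art

variable {k : Type u} [Field k] {Y : Scheme.{u}} (y : Y ⟶ Spec (CommRingCat.of k)) {X : Scheme.{u}}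
  [X.Over (Spec (CommRingCat.of k))] (i : X ⟶ Y) [IsClosedImmersion i]

/-- `Hom(I, O_X)` for any closed immersion. -/
theorem nonempty_tangent_h0 (hi : i ≫ y = X ↘ Spec (CommRingCat.of k)) [DCoh.HasSheafHom (Omega.conormal i)]
    [TangentStr (ArtFun.localHilb Y y i.ker)] :
    Nonempty (TangentSpace (ArtFun.localHilb Y y i.ker) ≃ₗ[k]
      Coh.HH X ((DCoh.sheafHom (Omega.conormal i)).obj (Coh.structureModule X)) 0) := by
  obtain ⟨q⟩ := HilbRS3.nonempty_quotMod_ker i
  let adj := Scheme.Modules.pullbackPushforwardAdjunction i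
  let P : Coh.HH X ((DCoh.sheafHom (Omega.conormal i)).obj (Coh.structureModule X)) 0 ≃
      (ClSub.idealMod i.ker ⟶ ClSub.quotMod i.ker) :=
    ((CurveCoh17.hh0 _).toEquiv.trans ((HilbRS3.homOfSection (Omega.conormal i)).trans
      (HilbRS3.homE adj (Iso.refl (ClSub.idealMod i.ker)) (Coh.structureModule X)))).trans
      ((Iso.refl (ClSub.idealMod i.ker)).homCongr q.symm)
  have hP : ∀ z, P z = HilbRS3.homE adj (Iso.refl (ClSub.idealMod i.ker)) (Coh.structureModule X)
      (HilbRS3.homOfSection (Omega.conormal i) (CurveCoh17.hh0 _ z)) ≫ q.inv := fun z => by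
    simp [P, Iso.homCongr]
    rfl
  have hPadd : ∀ z w, P (z + w) = P z + P w := fun z w => by
    rw [hP, hP, hP, map_add, HilbRS3.homOfSection_add]
    rw [← Preadditive.add_comp]
    exact congrArg (· ≫ q.inv) (HilbRS3.homE_add adj adj.right_adjoint_additive (Iso.refl _) _ _)
  have hPsmul : ∀ (c : k) z (U : Y.Opens) (m : Γ(ClSub.idealMod i.ker, U)),
      (P (c • z)).app U m = ThickAff3.str y U c • (P z).app U m := fun c z U m => by
    let r : Γ(X, ⊤) := ThickAff3.str (i ≫ y) ⊤ c
    have e1 : HilbRS3.homOfSection (Omega.conormal i) (CurveCoh17.hh0 _ (c • z)) =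
        HilbRS3.homOfSection (Omega.conormal i) (CurveCoh17.hh0 _ z) ≫ HilbRS3.scal r := by
      rw [← HilbRS3.homOfSection_smul, show CurveCoh17.hh0 _ (c • z) = r • CurveCoh17.hh0 _ z by
        refine (CurveCoh17.hh0_smul _ z).trans ?_
        congr 1
        exact (HilbRS3.toGlobal_eq _ c).trans (by rw [← hi])]
    rw [hP, hP, e1]
    refine (congrArg (fun f => (f ≫ q.inv).app U m) (HilbRS3.homE_comp adj (Iso.refl (ClSub.idealMod i.ker))
      (HilbRS3.homOfSection (Omega.conormal i) (CurveCoh17.hh0 _ z)) (HilbRS3.scal r))).trans ?_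
    let v : Γ((Scheme.Modules.pushforward i).obj (Coh.structureModule X), U) :=
      (HilbRS3.homE adj (Iso.refl (ClSub.idealMod i.ker)) (Coh.structureModule X)
      (HilbRS3.homOfSection (Omega.conormal i) (CurveCoh17.hh0 _ z))).app U m
    show q.inv.app U ((HilbRS3.scal r).app (i ⁻¹ᵁ U) v) = ThickAff3.str y U c • q.inv.app U v
    rw [← Scheme.Modules.Hom.app_smul]
    refine congrArg (q.inv.app U) ?_
    refine (HilbRS3.scal_app r _ v).trans ?_
    refine congrArg (fun t : Γ(X, i ⁻¹ᵁ U) => t * (show Γ(X, i ⁻¹ᵁ U) from v)) ?_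
    refine (ThickAff3.res_str (i ≫ y) le_top c).trans ?_
    show (i ≫ y).appLE ⊤ _ le_top _ = (y.appLE ⊤ U le_top ≫ i.app U) _
    rw [Scheme.Hom.app_eq_appLE, Scheme.Hom.appLE_comp_appLE]
  let L : Coh.HH X ((DCoh.sheafHom (Omega.conormal i)).obj (Coh.structureModule X)) 0 ≃
      TangentSpace (ArtFun.localHilb Y y i.ker) := P.trans (HilbRS3.normalEquiv y i.ker).symm
  have hL : ∀ z, HilbRS3.normal y i.ker (L z).val = P z := fun z =>
    (HilbRS3.normalEquiv y i.ker).apply_symm_apply _
  refine ⟨(LinearEquiv.symm { L with map_add' := fun z w => ?_, map_smul' := fun c z => ?_ })⟩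
  · refine HilbRS3.normal_injective y ?_
    show HilbRS3.normal y i.ker (L (z + w)).val = HilbRS3.normal y i.ker (L z + L w).val
    rw [HilbRS3.normal_add, hL, hL, hL, hPadd]
  · refine HilbRS3.normal_injective y (HilbRS3.normal_ext fun U m => ?_)
    show (HilbRS3.normal y i.ker (L (c • z)).val).app U.1 m = (HilbRS3.normal y i.ker (c • L z).val).app U.1 m
    rw [HilbRS3.normal_smul, hL, hL, hPsmul]

end Groth.Agent.HilbPt3
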